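import Cfsg.Agent.H892.EP.Good
import Cfsg.Agent.H352.EP.SpWt

/-!
# `Sp_{2n}(2)`: transvections, characters without fixed vectors of `Sp_2(2)`

* `coset6`: if two involutions `a`, `b` with `aba = bab` have no common fixed vector in the character `χ`
  then `χ(g) + χ(ga) + χ(gb) + χ(gab) + χ(gba) + χ(gaba) = 0` for all `g`;
* `tv u`: the symplectic transvections; transitivity on nonzero vectors.
-/

set_option autoImplicit false

open Cfsg Cfsg.Agent.Characters.Core Cfsg.Agent.H892.EP Cfsg.Agent.H352.EP
open Matrix Module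

namespace Cfsg.Agent.H902.EP

universe u

section six
variable {G : Type u} [Group G] [Finite G]

/-- sum over the six elements of `⟨a, b⟩` -/
theorem op6 {V : Type*} [AddCommGroup V] [Module ℂ V] [FiniteDimensional ℂ V]
    (ρ : Representation ℂ G V) {a b : G} (ha : a * a = 1) (hb : b * b = 1) (hab : a * b * a = b * a * b)
    (hfix : ∀ w : V, ρ a w = w → ρ b w = w → w = 0) :
    1 + ρ a + ρ b + ρ (a * b) + ρ (b * a) + ρ (a * b * a) = 0 := by
  refine LinearMap.ext fun v => ?_
  have ha' : ∀ w : V, ρ a (ρ a w) = w := fun w => by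
    rw [← Module.End.mul_apply, ← map_mul, ha, map_one, Module.End.one_apply]
  have hb' : ∀ w : V, ρ b (ρ b w) = w := fun w => by
    rw [← Module.End.mul_apply, ← map_mul, hb, map_one, Module.End.one_apply]
  have hab' : ∀ w : V, ρ a (ρ b (ρ a w)) = ρ b (ρ a (ρ b w)) := fun w => by
    have := congrArg (fun g => ρ g w) hab
    simpa only [map_mul, Module.End.mul_apply] using this
  have e : ∀ w : V, (1 + ρ a + ρ b + ρ (a * b) + ρ (b * a) + ρ (a * b * a)) w =
      w + ρ a w + ρ b w + ρ a (ρ b w) + ρ b (ρ a w) + ρ a (ρ b (ρ a w)) := fun w => by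
    simp only [LinearMap.add_apply, Module.End.one_apply, map_mul, Module.End.mul_apply]
  rw [e, LinearMap.zero_apply]
  apply hfix
  · simp only [map_add, ha']
    abel
  · simp only [map_add, hb']
    rw [hab' v, hb']
    rw [show ρ b (ρ a (ρ b v)) = ρ a (ρ b (ρ a v)) from (hab' v).symm]
    abel

/-- the class function version -/
theorem coset6 {χ : G → ℂ} (hχ : IsCharacter G χ) {a b : G} (ha : a * a = 1) (hb : b * b = 1)
    (hab : a * b * a = b * a * b) (h : NoFix (Subgroup.closure {a, b}) χ) (g : G) :
    χ g + χ (g * a) + χ (g * b) + χ (g * (a * b)) + χ (g * (b * a)) + χ (g * (a * b * a)) = 0 := by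
  obtain ⟨n, ρ, rfl⟩ := hχ
  have hfix : ∀ w : Fin n → ℂ, ρ a w = w → ρ b w = w → w = 0 := by
    intro w h1 h2
    by_contra hw
    have h3 := (md_ne_zero_iff ρ (Subgroup.closure {a, b})).2 ⟨w, hw, fun d hd => by
      induction hd using Subgroup.closure_induction with
      | mem x hx =>
        rcases hx with rfl | hx
        · exact h1
        · rw [Set.mem_singleton_iff.1 hx]
          exact h2
      | one => rw [map_one, Module.End.one_apply]
      | mul x y _ _ hx hy => rw [map_mul, Module.End.mul_apply, hy, hx]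
      | inv x _ hx =>
        conv_lhs => rw [← hx]
        rw [← Module.End.mul_apply, ← map_mul, inv_mul_cancel, map_one, Module.End.one_apply]⟩
    exact h3 ((md_eq_zero_iff _ _).2 h)
  have h0 := op6 ρ ha hb hab hfix
  have h1 := congrArg (fun T => LinearMap.trace ℂ _ (ρ g * T)) h0
  simp only [mul_add, mul_one, mul_zero, map_zero, map_add, ← map_mul] at h1
  exact h1

end six

section tv
variable {n : ℕ}

/-- the transvection `v ↦ v + form(v,u) u` -/
def tvfun (u : Vv n) : Vv n ≃ₗ[ZMod 2] Vv n where
  toFun v := v + form v u • u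
  invFun v := v + form v u • u
  map_add' a b := by
    rw [form_add_left, add_smul]
    abel
  map_smul' c v := by
    rw [form_smul_left, RingHom.id_apply, smul_add, smul_smul]
  left_inv v := by
    show v + form v u • u + form (v + form v u • u) u • u = v
    rw [form_add_left, form_smul_left, form_self, mul_zero, add_zero, add_assoc, ← add_smul,
      CharTwo.add_self_eq_zero, zero_smul, add_zero]
  right_inv v := by
    show v + form v u • u + form (v + form v u • u) u • u = v
    rw [form_add_left, form_smul_left, form_self, mul_zero, add_zero, add_assoc, ← add_smul,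
      CharTwo.add_self_eq_zero, zero_smul, add_zero]

theorem tvfun_apply (u v : Vv n) : tvfun u v = v + form v u • u := rfl

theorem tvfun_mem (u : Vv n) : tvfun u ∈ Sp n := by
  intro a b
  rw [tvfun_apply, tvfun_apply, form_add_left, form_add_right, form_add_right, form_smul_left,
    form_smul_left, form_smul_right, form_smul_right, form_self, form_comm u b]
  have h := CharTwo.add_self_eq_zero (form a u * form b u)
  linear_combination h

/-- the transvection as an element of `Sp n` -/
def tv (u : Vv n) : Sp n := ⟨tvfun u, tvfun_mem u⟩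

theorem tv_smul (u v : Vv n) : tv u • v = v + form v u • u := rfl

theorem tv_fix {u v : Vv n} (h : form v u = 0) : tv u • v = v := by
  rw [tv_smul, h, zero_smul, add_zero]

theorem tv_one {u v : Vv n} (h : form v u = 1) : tv u • v = v + u := by
  rw [tv_smul, h, one_smul]

theorem Sp.ext {g h : Sp n} (H : ∀ v : Vv n, g • v = h • v) : g = h :=
  Subtype.ext (LinearEquiv.ext H)

theorem tv_mul_self (u : Vv n) : tv u * tv u = 1 := by
  refine Sp.ext fun v => ?_
  rw [mul_smul, one_smul]
  exact (tvfun u).left_inv v

theorem tv_conj (g : Sp n) (u : Vv n) : g * tv u * g⁻¹ = tv (g • u) := by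
  refine Sp.ext fun v => ?_
  rw [mul_smul, mul_smul, tv_smul, smul_add, smul_inv_smul, tv_smul]
  have h1 : form (g⁻¹ • v) u = form v (g • u) := by
    rw [← form_smul g (g⁻¹ • v) u, smul_inv_smul]
  rw [h1]
  congr 1
  show (g : Vv n ≃ₗ[ZMod 2] Vv n) (form v (g • u) • u) = _
  rw [map_smul]
  rfl

theorem tv_zero : tv (0 : Vv n) = 1 := by
  refine Sp.ext fun v => ?_
  rw [tv_smul, smul_zero, add_zero, one_smul]

theorem vv_add_self (u : Vv n) : u + u = 0 := by
  refine Prod.ext ?_ ?_
  · exact vadd_self _
  · exact vadd_self _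

theorem tv_comm_of {g : Sp n} {u : Vv n} (h : g • u = u) : Commute g (tv u) := by
  have h1 := tv_conj g u
  rw [h] at h1
  exact (mul_inv_eq_iff_eq_mul.1 h1)

/-- `t_u t_v = t_{u+v} t_u` when `form u v = 1` -/
theorem tv_mul {u v : Vv n} (h : form u v = 1) : tv u * tv v = tv (u + v) * tv u := by
  have h1 := tv_conj (tv u) v
  rw [tv_one (by rw [form_comm]; exact h), add_comm v u] at h1
  rw [← h1]
  group

theorem tv_braid {u v : Vv n} (h : form u v = 1) : tv u * tv v * tv u = tv v * tv u * tv v := by
  have h1 := tv_mul h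
  have h2 := tv_mul (u := v) (v := u) (by rw [form_comm]; exact h)
  rw [h1, mul_assoc, tv_mul_self, mul_one, h2, mul_assoc, tv_mul_self, mul_one, add_comm]

theorem tv_aba {u v : Vv n} (h : form u v = 1) : tv u * tv v * tv u = tv (u + v) := by
  rw [tv_mul h, mul_assoc, tv_mul_self, mul_one]

/-- a vector not orthogonal to two given nonzero vectors -/
theorem exists_form_one {u v : Vv n} (hu : u ≠ 0) (hv : v ≠ 0) : ∃ w, form u w = 1 ∧ form v w = 1 := by
  have two : ∀ c : ZMod 2, c ≠ 0 → c = 1 := by decide
  obtain ⟨a, ha⟩ : ∃ a, form u a = 1 := by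
    by_contra hcon
    push Not at hcon
    exact hu (eq_zero_of_form u fun a => by
      by_contra h
      exact hcon a (two _ h))
  obtain ⟨b, hb⟩ : ∃ b, form v b = 1 := by
    by_contra hcon
    push Not at hcon
    exact hv (eq_zero_of_form v fun a => by
      by_contra h
      exact hcon a (two _ h))
  by_cases h1 : form v a = 1
  · exact ⟨a, ha, h1⟩
  by_cases h2 : form u b = 1
  · exact ⟨b, h2, hb⟩
  have e1 : form v a = 0 := by
    by_contra h
    exact h1 (two _ h)
  have e2 : form u b = 0 := by
    by_contra h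
    exact h2 (two _ h)
  exact ⟨a + b, by rw [form_add_right, ha, e2, add_zero], by rw [form_add_right, hb, e1, zero_add]⟩

/-- `Sp n` is transitive on the nonzero vectors -/
theorem exists_smul_eq {u v : Vv n} (hu : u ≠ 0) (hv : v ≠ 0) : ∃ g : Sp n, g • u = v := by
  have key : ∀ a b : Vv n, form a b = 1 → tv (a + b) • a = b := by
    intro a b h
    rw [tv_one (by rw [form_add_right, form_self, h, zero_add]), ← add_assoc, vv_add_self, zero_add]
  obtain ⟨w, h1, h2⟩ := exists_form_one hu hv
  refine ⟨tv (w + v) * tv (u + w), ?_⟩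
  rw [mul_smul, key u w h1, key w v (by rw [form_comm]; exact h2)]

end tv

end Cfsg.Agent.H902.EP
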