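import Cfsg.Agent.H902.EP.SpKill

/-!
# `Sp_{2n}(2)`, `p ∣ 2^e + 1`, `n > e`: an even degree in the principal block

`pi` the permutation character on the maximal isotropic subspaces. Suppose that its constituents of odd
degree are `1`, `ρ`, `β`, where `1 + ρ` is nonnegative and `β` has no fixed vector for `Sp_2(2)`.
-/

set_option autoImplicit false
set_option linter.unusedSectionVars false

open Cfsg Cfsg.Agent.Characters.Core Cfsg.Agent.H892.EP Cfsg.Agent.H352.EP
open Matrix Module

namespace Cfsg.Agent.H902.EP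

/-- `pi` vanishes on the section of `x` when `x` fixes no maximal isotropic subspace -/
theorem piL_section {n p : ℕ} [Fact p.Prime] {x : Sp n} (hL : ∀ S : Lag n, x • S ≠ S) (u z : Sp n)
    (hu : IsPPart p u z) (hz : IsConj x z) : piL n u = 0 := by
  obtain ⟨N, hN⟩ := Cfsg.Agent.Blocks.PPart.exists_pow_eq (G := Sp n) p
  have h1 := hN u z hu
  obtain ⟨c, hc⟩ := isConj_iff.1 hz
  unfold piL
  rw [Nat.cast_eq_zero, Nat.card_eq_zero]
  left
  refine ⟨fun S => ?_⟩
  have h2 : u • S.1 = S.1 := S.2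
  have h3 : z • S.1 = S.1 := by
    rw [← h1]
    have : ∀ k : ℕ, u ^ k • S.1 = S.1 := by
      intro k
      induction k with
      | zero => rw [pow_zero, one_smul]
      | succ k ih => rw [pow_succ, mul_smul, h2, ih]
    exact this N
  apply hL (c⁻¹ • S.1)
  rw [← hc, mul_smul, mul_smul] at h3
  exact smul_left_cancel c (by rw [h3, smul_inv_smul])

variable {n p : ℕ} [Fact p.Prime] {M : Ideal AlgInt}

open scoped Classical in
/-- the principal block part of `pi` -/
theorem blockPart_piL (hM : IsPModular p M) (ρ β : IrrCharacter (Sp n)) (hρ1 : ρ ≠ oneChar (Sp n))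
    (hβ1 : β ≠ oneChar (Sp n)) (hρβ : ρ ≠ β)
    (h1 : classInner (piL n) (oneChar (Sp n) : Sp n → ℂ) = 1)
    (hodd : ∀ χ : IrrCharacter (Sp n), χ ∈ principalBlock M (Sp n) → classInner (piL n) (χ : Sp n → ℂ) ≠ 0 →
      χ = oneChar (Sp n) ∨ χ = ρ ∨ χ = β) (g : Sp n) :
    blockPart (principalBlock M (Sp n)) (piL n) g =
      1 + (if ρ ∈ principalBlock M (Sp n) then classInner (piL n) (ρ : Sp n → ℂ) else 0) * (ρ : Sp n → ℂ) g +
        (if β ∈ principalBlock M (Sp n) then classInner (piL n) (β : Sp n → ℂ) else 0) * (β : Sp n → ℂ) g := by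
  have : Finite (IrrCharacter (Sp n)) := finite_irr
  have := Fintype.ofFinite (IrrCharacter (Sp n))
  have h3 : blockPart (principalBlock M (Sp n)) (piL n) g =
      ∑ᶠ χ ∈ principalBlock M (Sp n), classInner (piL n) (χ : Sp n → ℂ) * (χ : Sp n → ℂ) g := by
    unfold blockPart
    refine finsum_congr fun χ => ?_
    refine finsum_congr fun _ => ?_
    congr!
  rw [h3, Cfsg.Agent.Blocks.Orthogonality.finsum_mem_eq_sum_filter, Finset.sum_filter]
  have h4 : ∀ χ : IrrCharacter (Sp n), (if χ ∈ principalBlock M (Sp n) then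
      classInner (piL n) (χ : Sp n → ℂ) * (χ : Sp n → ℂ) g else 0) =
      (if χ = oneChar (Sp n) then 1 else 0) +
      (if χ = ρ then (if ρ ∈ principalBlock M (Sp n) then classInner (piL n) (ρ : Sp n → ℂ) else 0) *
        (ρ : Sp n → ℂ) g else 0) +
      (if χ = β then (if β ∈ principalBlock M (Sp n) then classInner (piL n) (β : Sp n → ℂ) else 0) *
        (β : Sp n → ℂ) g else 0) := by
    intro χ
    by_cases c1 : χ = oneChar (Sp n)
    · subst c1
      rw [if_pos (one_mem_block hM), if_pos rfl, if_neg hρ1.symm, if_neg hβ1.symm, h1]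
      simp
    by_cases c2 : χ = ρ
    · subst c2
      rw [if_neg c1, if_pos rfl, if_neg hρβ]
      split_ifs <;> simp
    by_cases c3 : χ = β
    · subst c3
      rw [if_neg c1, if_neg c2, if_pos rfl]
      split_ifs <;> simp
    rw [if_neg c1, if_neg c2, if_neg c3, add_zero, add_zero]
    split_ifs with hB
    · have h5 : classInner (piL n) (χ : Sp n → ℂ) = 0 := by
        by_contra h6
        rcases hodd χ hB h6 with h | h | h
        · exact c1 h
        · exact c2 h
        · exact c3 h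
      rw [h5, zero_mul]
    · rfl
  rw [Finset.sum_congr rfl fun χ _ => h4 χ, Finset.sum_add_distrib, Finset.sum_add_distrib,
    Finset.sum_ite_eq' Finset.univ, Finset.sum_ite_eq' Finset.univ, Finset.sum_ite_eq' Finset.univ]
  simp only [Finset.mem_univ, if_true]

/-- the block part vanishes at `x z` -/
theorem blockPart_vanish (hM : IsPModular p M) {x : Sp n} (hx : ∃ k : ℕ, orderOf x = p ^ k)
    (hL : ∀ S : Lag n, x • S ≠ S) {z : Sp n} (hz : Commute x z) (hpz : ¬ p ∣ orderOf z) :
    blockPart (principalBlock M (Sp n)) (piL n) (x * z) = 0 :=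
  Cfsg.Agent.Blocks.Orthogonality.blockPart_eq_zero hM (principalBlock M (Sp n)) (coeff_ring hM) (piL n) x
    (fun u z hu hz => piL_section hL u z hu hz) (x * z) x ⟨z, rfl, hz, hx, hpz⟩ (IsConj.refl x)

/-- the case `p ≥ 5` -/
theorem even_ge_five (hM : IsPModular p M) (hp2 : p ≠ 2) (hp3 : p ≠ 3) {x : Sp n}
    (hx : ∃ k : ℕ, orderOf x = p ^ k) (hL : ∀ S : Lag n, x • S ≠ S) {u v : Vv n} (huv : form u v = 1)
    (hxu : x • u = u) (hxv : x • v = v) (ρ β : IrrCharacter (Sp n)) (hρ1 : ρ ≠ oneChar (Sp n))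
    (hβ1 : β ≠ oneChar (Sp n)) (hρβ : ρ ≠ β) (Op : Sp n → ℝ) (hOp : ∀ g, (ρ : Sp n → ℂ) g + 1 = Op g)
    (hOp0 : ∀ g, 0 ≤ Op g) (hOpx : 0 < Op x)
    (hβ : NoFix (Subgroup.closure {tv u, tv v}) (β : Sp n → ℂ))
    (h1 : classInner (piL n) (oneChar (Sp n) : Sp n → ℂ) = 1)
    (h2 : classInner (piL n) (ρ : Sp n → ℂ) = 1)
    (hodd : ∀ χ : IrrCharacter (Sp n), classInner (piL n) (χ : Sp n → ℂ) ≠ 0 →
      ¬ 2 ∣ charDegree (χ : Sp n → ℂ) → χ = oneChar (Sp n) ∨ χ = ρ ∨ χ = β) :
    ∃ χ : IrrCharacter (Sp n), χ ∈ principalBlock M (Sp n) ∧ 2 ∣ charDegree (χ : Sp n → ℂ) := by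
  classical
  by_contra hcon
  push Not at hcon
  have hpp : p.Prime := Fact.out
  have hbp := blockPart_piL hM ρ β hρ1 hβ1 hρβ h1 (fun χ hχ h => hodd χ h (hcon χ hχ))
  set a := tv u with hadef
  set b := tv v with hbdef
  have ha : a * a = 1 := tv_mul_self u
  have hb : b * b = 1 := tv_mul_self v
  have hab : a * b * a = b * a * b := tv_braid huv
  have hxa : Commute x a := tv_comm_of hxu
  have hxb : Commute x b := tv_comm_of hxv
  have hreg : ∀ y : Sp n, y ^ 6 = 1 → ¬ p ∣ orderOf y := by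
    intro y hy hd
    have h3 : p ∣ 6 := hd.trans (orderOf_dvd_of_pow_eq_one hy)
    have h4 : p ∣ 2 * 3 := h3
    rcases (Nat.Prime.dvd_mul hpp).1 h4 with h | h
    · exact hp2 ((Nat.prime_dvd_prime_iff_eq hpp Nat.prime_two).1 h)
    · exact hp3 ((Nat.prime_dvd_prime_iff_eq hpp Nat.prime_three).1 h)
  have p2 : ∀ y : Sp n, y * y = 1 → y ^ 6 = 1 := by
    intro y hy
    rw [show (6 : ℕ) = 2 * 3 from rfl, pow_mul, pow_two, hy, one_pow]
  have p3 : ∀ y : Sp n, y * y * y = 1 → y ^ 6 = 1 := by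
    intro y hy
    have h3 : y ^ 3 = 1 := by
      rw [pow_succ, pow_two]
      exact hy
    rw [show (6 : ℕ) = 3 * 2 from rfl, pow_mul, h3, one_pow]
  have hab3 : a * b * (a * b) * (a * b) = 1 := by
    calc a * b * (a * b) * (a * b) = (a * b * a) * b * (a * b) := by group
      _ = b * a * b * b * (a * b) := by rw [hab]
      _ = b * a * (b * b) * a * b := by group
      _ = b * (a * a) * b := by rw [hb]; group
      _ = 1 := by rw [ha, mul_one, hb]
  have hba3 : b * a * (b * a) * (b * a) = 1 := by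
    calc b * a * (b * a) * (b * a) = (b * a * b) * a * (b * a) := by group
      _ = a * b * a * a * (b * a) := by rw [hab]
      _ = a * b * (a * a) * b * a := by group
      _ = a * (b * b) * a := by rw [ha]; group
      _ = 1 := by rw [hb, mul_one, ha]
  have haba : a * b * a * (a * b * a) = 1 := by
    calc a * b * a * (a * b * a) = a * b * (a * a) * b * a := by group
      _ = a * (b * b) * a := by rw [ha]; group
      _ = 1 := by rw [hb, mul_one, ha]
  have v0 := blockPart_vanish hM hx hL (Commute.one_right x) (hreg 1 (one_pow 6))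
  have v1 := blockPart_vanish hM hx hL hxa (hreg a (p2 a ha))
  have v2 := blockPart_vanish hM hx hL hxb (hreg b (p2 b hb))
  have v3 := blockPart_vanish hM hx hL (hxa.mul_right hxb) (hreg (a * b) (p3 _ hab3))
  have v4 := blockPart_vanish hM hx hL (hxb.mul_right hxa) (hreg (b * a) (p3 _ hba3))
  have v5 := blockPart_vanish hM hx hL ((hxa.mul_right hxb).mul_right hxa) (hreg (a * b * a) (p2 _ haba))
  rw [mul_one] at v0
  rw [hbp] at v0 v1 v2 v3 v4 v5
  have h6 := coset6 (isIrr_isCharacter β.2) ha hb hab hβ x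
  have hr : ∀ g, (ρ : Sp n → ℂ) g = (Op g : ℂ) - 1 := fun g => by rw [← hOp g]; ring
  rw [hr] at v0 v1 v2 v3 v4 v5
  set cb : ℂ := (if β ∈ principalBlock M (Sp n) then classInner (piL n) (β : Sp n → ℂ) else 0) with hcb
  by_cases hρ : ρ ∈ principalBlock M (Sp n)
  · rw [if_pos hρ, h2] at v0 v1 v2 v3 v4 v5
    have h7 : ((Op x + Op (x * a) + Op (x * b) + Op (x * (a * b)) + Op (x * (b * a)) + Op (x * (a * b * a)) : ℝ) : ℂ) = 0 := by
      push_cast
      linear_combination v0 + v1 + v2 + v3 + v4 + v5 - cb * h6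
    have h8 : Op x + Op (x * a) + Op (x * b) + Op (x * (a * b)) + Op (x * (b * a)) + Op (x * (a * b * a)) = 0 := by
      exact_mod_cast h7
    have := hOp0 (x * a)
    have := hOp0 (x * b)
    have := hOp0 (x * (a * b))
    have := hOp0 (x * (b * a))
    have := hOp0 (x * (a * b * a))
    linarith
  · rw [if_neg hρ] at v0 v1 v2 v3 v4 v5
    have h7 : (6 : ℂ) = 0 := by linear_combination v0 + v1 + v2 + v3 + v4 + v5 - cb * h6
    norm_num at h7

end Cfsg.Agent.H902.EP
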